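import Mathlib.RingTheory.Length
import Mathlib.RingTheory.Ideal.Quotient.Operations
import Mathlib.RingTheory.LocalRing.MaximalIdeal.Basic
import Mathlib.Tactic.LinearCombination

/-! Lech-independent sequences: the length of the quotient by powers is at least the product. -/

set_option autoImplicit false

universe u

namespace Groth.Agent.Kunz97

variable {R : Type u} [CommRing R] {n : ℕ}

/-- Lech independence. -/
def Indep (y : Fin n → R) : Prop :=
  ∀ a : Fin n → R, ∑ i, a i * y i = 0 → ∀ i, a i ∈ Ideal.span (Set.range y)

theorem span_update_le (y : Fin n → R) (l : Fin n) (z w : R) (h : y l = z * w) :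
    Ideal.span (Set.range y) ≤ Ideal.span (Set.range (Function.update y l z)) := by
  rw [Ideal.span_le]
  rintro _ ⟨i, rfl⟩
  by_cases hi : i = l
  · rw [hi, h]
    refine Ideal.mul_mem_right _ _ (Ideal.subset_span ⟨l, ?_⟩)
    rw [Function.update_self]
  · exact Ideal.subset_span ⟨i, Function.update_of_ne hi _ _⟩

theorem sum_update (y : Fin n → R) (l : Fin n) (z : R) (a : Fin n → R) :
    ∑ i, a i * Function.update y l z i = a l * z + ∑ i ∈ Finset.univ.erase l, a i * y i := by
  rw [← Finset.add_sum_erase _ _ (Finset.mem_univ l), Function.update_self]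
  exact congrArg _ (Finset.sum_congr rfl fun i hi => by rw [Function.update_of_ne (Finset.ne_of_mem_erase hi)])

theorem Indep.update {y : Fin n → R} (hy : Indep y) (l : Fin n) (z w : R) (h : y l = z * w) :
    Indep (Function.update y l z) := by
  intro a ha i
  rw [sum_update] at ha
  have h1 : ∀ j, Function.update (fun j => w * a j) l (a l) j ∈ Ideal.span (Set.range y) := hy _ (by
    rw [← Finset.add_sum_erase _ _ (Finset.mem_univ l), Function.update_self, h]
    have h2 : ∑ j ∈ Finset.univ.erase l, Function.update (fun j => w * a j) l (a l) j * y j =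
        w * ∑ j ∈ Finset.univ.erase l, a j * y j := by
      rw [Finset.mul_sum]
      exact Finset.sum_congr rfl fun j hj => by rw [Function.update_of_ne (Finset.ne_of_mem_erase hj), mul_assoc]
    rw [h2]
    linear_combination w * ha)
  obtain ⟨c, hc⟩ := Ideal.mem_span_range_iff_exists_fun.1 (by simpa using h1 l : a l ∈ Ideal.span (Set.range y))
  have hle := span_update_le y l z w h
  by_cases hi : i = l
  · subst hi
    exact hle (by simpa using h1 i)
  · have h3 : ∀ j, Function.update (fun j => a j + c j * z) l (c l * z) j ∈ Ideal.span (Set.range y) := hy _ (by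
      rw [← Finset.add_sum_erase _ _ (Finset.mem_univ l), Function.update_self]
      rw [← Finset.add_sum_erase _ _ (Finset.mem_univ l)] at hc
      have h2 : ∑ j ∈ Finset.univ.erase l, Function.update (fun j => a j + c j * z) l (c l * z) j * y j =
          (∑ j ∈ Finset.univ.erase l, a j * y j) + z * ∑ j ∈ Finset.univ.erase l, c j * y j := by
        rw [Finset.mul_sum, ← Finset.sum_add_distrib]
        exact Finset.sum_congr rfl fun j hj => by rw [Function.update_of_ne (Finset.ne_of_mem_erase hj)]; ring
      rw [h2]
      linear_combination ha + z * hc)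
    have h4 := hle (h3 i)
    rw [Function.update_of_ne hi] at h4
    have hz : z ∈ Ideal.span (Set.range (Function.update y l z)) :=
      Ideal.subset_span ⟨l, Function.update_self _ _ _⟩
    exact (Ideal.add_mem_iff_left _ (Ideal.mul_mem_left _ _ hz)).1 h4

theorem length_add_le {y : Fin n → R} (hy : Indep y) (l : Fin n) (z w : R) (h : y l = z * w) :
    Module.length R (R ⧸ Ideal.span (Set.range (Function.update y l z))) +
      Module.length R (R ⧸ Ideal.span (Set.range (Function.update y l w))) ≤
        Module.length R (R ⧸ Ideal.span (Set.range y)) := by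
  set W := Ideal.span (Set.range (Function.update y l w))
  set P := Ideal.span (Set.range y)
  set Z := Ideal.span (Set.range (Function.update y l z))
  have hW : W ≤ Submodule.comap (LinearMap.lsmul R R z) P := by
    rw [show W = Submodule.span R _ from rfl, Submodule.span_le]
    rintro _ ⟨i, rfl⟩
    change z * Function.update y l w i ∈ P
    by_cases hi : i = l
    · rw [hi, Function.update_self, ← h]
      exact Ideal.subset_span ⟨l, rfl⟩
    · rw [Function.update_of_ne hi]
      exact Ideal.mul_mem_left _ _ (Ideal.subset_span ⟨i, rfl⟩)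
  let g : (R ⧸ W) →ₗ[R] R ⧸ P := Submodule.mapQ W P (LinearMap.lsmul R R z) hW
  have hg : Function.Injective g := by
    refine (injective_iff_map_eq_zero g).2 fun r hr => ?_
    obtain ⟨r, rfl⟩ := Submodule.Quotient.mk_surjective W r
    rw [Submodule.Quotient.mk_eq_zero]
    have hr' : z * r ∈ P := (Submodule.Quotient.mk_eq_zero P).1 hr
    obtain ⟨c, hc⟩ := Ideal.mem_span_range_iff_exists_fun.1 hr'
    rw [← Finset.add_sum_erase _ _ (Finset.mem_univ l), h] at hc
    have h1 : ∀ j, Function.update (fun j => -(w * c j)) l (r - c l * w) j ∈ P := hy _ (by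
      rw [← Finset.add_sum_erase _ _ (Finset.mem_univ l), Function.update_self, h]
      have h2 : ∑ j ∈ Finset.univ.erase l, Function.update (fun j => -(w * c j)) l (r - c l * w) j * y j =
          -(w * ∑ j ∈ Finset.univ.erase l, c j * y j) := by
        rw [Finset.mul_sum, ← Finset.sum_neg_distrib]
        exact Finset.sum_congr rfl fun j hj => by rw [Function.update_of_ne (Finset.ne_of_mem_erase hj)]; ring
      rw [h2]
      linear_combination -w * hc)
    have h3 := span_update_le y l w z (h.trans (mul_comm z w)) (h1 l)
    rw [Function.update_self] at h3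
    have hwW : w ∈ W := Ideal.subset_span (show w ∈ Set.range (Function.update y l w) from ⟨l, Function.update_self _ _ _⟩)
    exact (Submodule.sub_mem_iff_left W (Ideal.mul_mem_left W (c l) hwW)).1 h3
  have hPZ : P ≤ Z := span_update_le y l z w h
  have hkill : LinearMap.range g ≤ LinearMap.ker (Submodule.factor hPZ) := by
    rintro _ ⟨r, rfl⟩
    obtain ⟨r, rfl⟩ := Submodule.Quotient.mk_surjective W r
    rw [LinearMap.mem_ker]
    change Submodule.Quotient.mk (z * r) = 0
    rw [Submodule.Quotient.mk_eq_zero]
    exact Ideal.mul_mem_right _ _ (Ideal.subset_span ⟨l, Function.update_self _ _ _⟩)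
  rw [Module.length_eq_add_of_exact g (LinearMap.range g).mkQ hg (Submodule.mkQ_surjective _)
    (LinearMap.exact_map_mkQ_range g), add_comm]
  refine add_le_add le_rfl (Module.length_le_of_surjective ((LinearMap.range g).liftQ _ hkill) fun y => ?_)
  obtain ⟨x, rfl⟩ := Submodule.factor_surjective hPZ y
  exact ⟨Submodule.Quotient.mk x, rfl⟩

/-- The monomial lower bound. -/
theorem prod_le_length [IsLocalRing R] : ∀ (N : ℕ) (x : Fin n → R), (∀ i, x i ∈ IsLocalRing.maximalIdeal R) →
    ∀ e : Fin n → ℕ, ∑ i, e i = N → (∀ i, 1 ≤ e i) → Indep (fun i => x i ^ e i) →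
      ((∏ i, e i : ℕ) : ℕ∞) ≤ Module.length R (R ⧸ Ideal.span (Set.range fun i => x i ^ e i)) := by
  intro N
  induction N using Nat.strong_induction_on with
  | _ N ih =>
    intro x hx e hN he hy
    by_cases hl : ∃ l, 2 ≤ e l
    · obtain ⟨l, hl⟩ := hl
      have hsplit : x l ^ e l = x l ^ (e l - 1) * x l := by rw [← pow_succ, Nat.sub_add_cancel (by omega)]
      have hupd : ∀ k, (fun i => x i ^ Function.update e l k i) = Function.update (fun i => x i ^ e i) l (x l ^ k) :=
        fun k => funext fun i => by
          by_cases hi : i = l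
          · subst hi; simp
          · simp [hi]
      have hlt : ∀ k, k < e l → ∑ i, Function.update e l k i < N := fun k hk => by
        rw [← hN, ← Finset.add_sum_erase _ _ (Finset.mem_univ l), Function.update_self,
          ← Finset.add_sum_erase _ e (Finset.mem_univ l)]
        exact add_lt_add_of_lt_of_le hk (Finset.sum_le_sum fun i hi => by
          rw [Function.update_of_ne (Finset.ne_of_mem_erase hi)])
      have hpos : ∀ k, 1 ≤ k → ∀ i, 1 ≤ Function.update e l k i := fun k hk i => by
        by_cases hi : i = l
        · subst hi; simpa using hk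
        · rw [Function.update_of_ne hi]; exact he i
      have h1 := ih _ (hlt (e l - 1) (by omega)) x hx _ rfl (hpos _ (by omega))
        (by rw [hupd]; exact hy.update l _ _ hsplit)
      have h2 := ih _ (hlt 1 (by omega)) x hx _ rfl (hpos _ le_rfl)
        (by rw [hupd, pow_one]; exact hy.update l _ _ (hsplit.trans (mul_comm _ _)))
      rw [hupd] at h1 h2
      rw [pow_one] at h2
      refine le_trans ?_ ((add_le_add h1 h2).trans (length_add_le hy l _ _ hsplit))
      rw [← Nat.cast_add, Nat.cast_le, ← Finset.mul_prod_erase _ e (Finset.mem_univ l),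
        ← Finset.mul_prod_erase _ (Function.update e l (e l - 1)) (Finset.mem_univ l),
        ← Finset.mul_prod_erase _ (Function.update e l 1) (Finset.mem_univ l), Function.update_self,
        Function.update_self]
      have hp : ∀ k, ∏ i ∈ Finset.univ.erase l, Function.update e l k i = ∏ i ∈ Finset.univ.erase l, e i :=
        fun k => Finset.prod_congr rfl fun i hi => Function.update_of_ne (Finset.ne_of_mem_erase hi) _ _
      rw [hp, hp, ← add_mul, Nat.sub_add_cancel (by omega)]
    · push Not at hl
      have he1 : ∀ i, e i = 1 := fun i => le_antisymm (Nat.lt_succ_iff.1 (hl i)) (he i)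
      have hle : Ideal.span (Set.range fun i => x i ^ e i) ≤ IsLocalRing.maximalIdeal R := by
        rw [Ideal.span_le]
        rintro _ ⟨i, rfl⟩
        simpa [he1 i] using hx i
      haveI : Nontrivial (R ⧸ Ideal.span (Set.range fun i => x i ^ e i)) :=
        Ideal.Quotient.nontrivial_iff.2 fun h => (IsLocalRing.maximalIdeal.isMaximal R).ne_top (top_le_iff.1 (h ▸ hle))
      simp only [he1, Finset.prod_const_one, Nat.cast_one]
      exact Order.one_le_iff_pos.2 (by simpa [he1] using (Module.length_pos (R := R) (M := R ⧸ Ideal.span (Set.range fun i => x i ^ e i))))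

end Groth.Agent.Kunz97
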