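import Groth.Agent.HK97.Basic
import Groth.Agent.Kunz97.Lech
import Groth.Agent.FlatLoc6.Miracle
import Groth.Agent.AvramovLib.Ps
import Mathlib.RingTheory.RingHom.Flat

/-! Kunz's theorem for local rings. -/

set_option autoImplicit false
set_option linter.style.haveILetI false

universe u

open IsLocalRing Filter

namespace Groth.Agent.Kunz97

variable {R : Type u} [CommRing R] (p : ℕ) [Fact p.Prime] [CharP R p]

theorem flat_iterateFrobenius (h : (frobenius R p).Flat) (e : ℕ) : (iterateFrobenius R p e).Flat := by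
  induction e with
  | zero => rw [iterateFrobenius_zero]; exact RingHom.Flat.id R
  | succ e ih => rw [iterateFrobenius_add, iterateFrobenius_one]; exact RingHom.Flat.comp h ih


set_option maxHeartbeats 1000000 in
theorem mem_map_of_relation [IsLocalRing R] (φ : R →+* R) (hφ : φ.Flat) {n : ℕ} (x : Fin n → R)
    (hmin : ∀ c : Fin n → R, ∑ i, x i * c i = 0 → ∀ i, c i ∈ maximalIdeal R) (a : Fin n → R)
    (ha : ∑ j, φ (x j) * a j = 0) (i : Fin n) : a i ∈ Ideal.map φ (maximalIdeal R) := by
  haveI : Module.Flat R (HK97.Tw φ) := hφ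
  let a' : Fin n → HK97.Tw φ := a
  have hrel : ∑ j, x j • a' j = 0 := ha
  obtain ⟨k, c, z, hz, hcz⟩ := Module.Flat.isTrivialRelation_of_sum_smul_eq_zero (R := R) (M := HK97.Tw φ) (f := x) (x := a') hrel
  let z' : Fin k → R := z
  have hzi : a i = ∑ j, φ (c i j) * z' j := hz i
  rw [hzi]
  exact Ideal.sum_mem _ fun j _ => Ideal.mul_mem_right _ _
    (Ideal.mem_map_of_mem φ (hmin (fun l => c l j) (hcz j) i))

/-- Flat Frobenius implies regular. -/
theorem isRegularLocalRing_of_flat [IsNoetherianRing R] [IsLocalRing R] (h : (frobenius R p).Flat) :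
    IsRegularLocalRing R := by
  classical
  have hp : p.Prime := Fact.out
  obtain ⟨d, hd⟩ : ∃ d : ℕ, ringKrullDim R = (d : WithBot ℕ∞) := by
    obtain ⟨x, hx⟩ := WithBot.ne_bot_iff_exists.1 (ringKrullDim_ne_bot (R := R))
    obtain ⟨d, rfl⟩ := ENat.ne_top_iff_exists.1 (fun hxt : x = ⊤ =>
      (ringKrullDim_lt_top (R := R)).ne (by rw [← hx, hxt]; rfl))
    exact ⟨d, hx.symm⟩
  refine IsRegularLocalRing.of_spanFinrank_maximalIdeal_le (R := R) ?_
  set n := (maximalIdeal R).spanFinrank with hn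
  rw [hd, Nat.cast_le]
  obtain ⟨s, hs, hspan⟩ :=
    Submodule.FG.exists_span_finset_card_eq_spanFinrank (maximalIdeal R).fg_of_isNoetherianRing
  obtain ⟨x, hx⟩ : ∃ x : Fin n → R, Ideal.span (Set.range x) = maximalIdeal R := by
    refine ⟨fun j => (s.equivFinOfCardEq hs).symm j, ?_⟩
    rw [show Set.range (fun j => ((s.equivFinOfCardEq hs).symm j : R)) = (s : Set R) from
      (Set.range_comp Subtype.val _).trans (by rw [Equiv.range_eq_univ, Set.image_univ, Subtype.range_coe_subtype]; rfl)]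
    exact hspan
  have hxm : ∀ i, x i ∈ maximalIdeal R := fun i => hx ▸ Ideal.subset_span ⟨i, rfl⟩
  have hmin : ∀ c : Fin n → R, ∑ i, x i * c i = 0 → ∀ i, c i ∈ maximalIdeal R := by
    intro c hc l
    by_contra hl
    obtain ⟨u, hu⟩ := not_not.1 (fun hu => hl ((mem_maximalIdeal (c l)).2 hu))
    set T : Set R := x '' ↑(Finset.univ.erase l) with hT
    have hle : maximalIdeal R ≤ Ideal.span T := by
      rw [← hx, Ideal.span_le]
      rintro _ ⟨i, rfl⟩
      by_cases hi : i = l
      · subst hi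
        rw [← Finset.add_sum_erase _ _ (Finset.mem_univ i), ← hu] at hc
        have : x i * (u : R) ∈ Ideal.span T := by
          rw [eq_neg_of_add_eq_zero_left hc]
          exact Submodule.neg_mem _ (Ideal.sum_mem _ fun j hj =>
            Ideal.mul_mem_right _ _ (Ideal.subset_span ⟨j, hj, rfl⟩))
        exact (Ideal.mul_unit_mem_iff_mem _ u.isUnit).1 this
      · exact Ideal.subset_span ⟨i, Finset.mem_coe.2 (Finset.mem_erase.2 ⟨hi, Finset.mem_univ _⟩), rfl⟩
    have heq : maximalIdeal R = Ideal.span T := le_antisymm hle (Ideal.span_le.2 (by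
      rintro _ ⟨i, -, rfl⟩
      exact hxm i))
    have hcard : n ≤ (Finset.univ.erase l).card := by
      calc n = (Ideal.span T).spanFinrank := by rw [hn, heq]
        _ ≤ T.ncard := Submodule.spanFinrank_span_le_ncard_of_finite ((Finset.finite_toSet _).image x)
        _ ≤ (↑(Finset.univ.erase l) : Set (Fin n)).ncard := Set.ncard_image_le (Finset.finite_toSet _)
        _ = _ := Set.ncard_coe_finset _
    rw [Finset.card_erase_of_mem (Finset.mem_univ l), Finset.card_univ, Fintype.card_fin] at hcard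
    have := l.isLt
    omega
  have key : ∀ e : ℕ, ((p ^ e) ^ n : ℕ) ≤ HK97.hk p (maximalIdeal R) R e := by
    intro e
    set φ := iterateFrobenius R p e with hφ
    have hφx : ∀ r, φ r = r ^ p ^ e := fun r => iterateFrobenius_def p e r
    have hmap : Ideal.map φ (maximalIdeal R) = Ideal.span (Set.range fun i => x i ^ p ^ e) := by
      rw [← hx, Ideal.map_span, ← Set.range_comp]
      exact congrArg Ideal.span (congrArg Set.range (funext fun i => hφx (x i)))
    have hind : Indep (fun i => x i ^ p ^ e) := by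
      intro a ha i
      exact hmap.le (mem_map_of_relation φ (flat_iterateFrobenius p h e) x hmin a
        ((Finset.sum_congr rfl fun j _ => by rw [hφx, mul_comm]).trans ha) i)
    have hle := prod_le_length _ x hxm (fun _ => p ^ e) rfl (fun _ => Nat.one_le_pow _ _ hp.pos) hind
    rw [Finset.prod_const, Finset.card_univ, Fintype.card_fin, ← hmap] at hle
    rw [← Nat.cast_le (α := ℕ∞), HK97.hk_cast ⟨1, (pow_one _).le⟩]
    refine hle.trans (le_of_eq ?_)
    exact (Submodule.quotEquivOfEq _ _ (by rw [smul_eq_mul, Ideal.mul_top])).length_eq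
  obtain ⟨C, hC⟩ := HK97.hk_bound (p := p) (a := maximalIdeal R) ⟨1, (pow_one _).le⟩ R d
    ((Module.supportDim_self_eq_ringKrullDim R).trans hd).le
  by_contra hlt
  push Not at hlt
  have hp1 : (1 : ℝ) < p := by exact_mod_cast hp.one_lt
  obtain ⟨e, he⟩ := pow_unbounded_of_one_lt C hp1
  have h1 : ((p : ℝ) ^ d) ^ e * (p : ℝ) ^ e ≤ C * ((p : ℝ) ^ d) ^ e := by
    refine le_trans ?_ (hC e)
    refine le_trans ?_ (Nat.cast_le.2 (key e))
    push_cast
    rw [← mul_pow, ← pow_succ, ← pow_mul, ← pow_mul, mul_comm e n]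
    exact pow_le_pow_right₀ hp1.le (Nat.mul_le_mul_right e hlt)
  have h2 : (0 : ℝ) < ((p : ℝ) ^ d) ^ e := by positivity
  nlinarith

/-- Regular implies flat Frobenius. -/
theorem flat_of_isRegularLocalRing [IsRegularLocalRing R] : (frobenius R p).Flat := by
  set φ := frobenius R p with hφ
  have hloc : IsLocalHom φ := ⟨fun r hr => by
    rw [hφ, frobenius_def, isUnit_pow_iff (Fact.out : p.Prime).ne_zero] at hr
    exact hr⟩
  haveI : IsNoetherianRing (HK97.Tw φ) := inferInstanceAs (IsNoetherianRing R)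
  haveI : IsLocalHom (algebraMap R (HK97.Tw φ)) := ⟨fun r hr => hloc.map_nonunit r hr⟩
  have hCM : LocCoh.IsCohenMacaulayModule (HK97.Tw φ) (HK97.Tw φ) :=
    (AvramovLib.isCM_of_regular R).supportDim_eq_depth
  refine (FlatLoc6.flat_of_isCM (A := R) (B := HK97.Tw φ) (M := HK97.Tw φ) hCM ?_ : Module.Flat R (HK97.Tw φ))
  have hmN : FlatLoc6.mN R (HK97.Tw φ) (HK97.Tw φ) = (maximalIdeal R).map (algebraMap R (HK97.Tw φ)) := by
    simp [FlatLoc6.mN]
  have h0 : Module.supportDim (HK97.Tw φ) (HK97.Tw φ ⧸ FlatLoc6.mN R (HK97.Tw φ) (HK97.Tw φ)) = 0 := by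
    rw [Module.supportDim_eq_of_equiv (Submodule.quotEquivOfEq _ _ hmN), Module.supportDim_quotient_eq_ringKrullDim]
    set I := (maximalIdeal R).map (algebraMap R (HK97.Tw φ))
    have hI : I ≤ maximalIdeal (HK97.Tw φ) := Ideal.map_le_iff_le_comap.2 fun r hr hu => hr (isUnit_of_map_unit _ r hu)
    haveI : Nontrivial (HK97.Tw φ ⧸ I) := Ideal.Quotient.nontrivial_iff.2 fun h =>
      (maximalIdeal.isMaximal (HK97.Tw φ)).ne_top (top_le_iff.1 (h ▸ hI))
    rw [← ringKrullDimZero_iff_ringKrullDim_eq_zero, Ideal.krullDimLE_zero_quotient_iff_forall_minimalPrimes_isMaximal]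
    intro J hJ
    haveI := hJ.1.1
    have : maximalIdeal (HK97.Tw φ) ≤ J := fun (r : R) hr =>
      hJ.1.1.mem_of_pow_mem p (hJ.1.2 (Ideal.mem_map_of_mem (algebraMap R (HK97.Tw φ)) hr))
    rw [le_antisymm (le_maximalIdeal hJ.1.1.ne_top) this]
    exact maximalIdeal.isMaximal _
  rw [h0, add_zero, Module.supportDim_self_eq_ringKrullDim]
  rfl

end Groth.Agent.Kunz97
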